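import Groth.Agent.Misc12.Cliff.SOPrime
import Groth.Agent.Misc12.Cliff.Parity

/-!
The Dickson invariant of isometries of a regular form of even rank as an idempotent, natural in the algebra.
-/

set_option autoImplicit false
set_option linter.unusedSectionVars false

noncomputable section

open QuadraticMap CliffordAlgebra
open scoped TensorProduct

universe u

namespace Groth.Misc12.Cliff.Conn.Even

variable {R : Type u} [CommRing R] {n m : ℕ} {Q : QuadraticForm R (Fin n → R)}

theorem Fmap_mem_evenOdd {A B : Type u} [CommRing A] [CommRing B] [Algebra R A] [Algebra R B] (φ : A →ₐ[R] B)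
    {i : ZMod 2} {x : CliffordAlgebra (QA Q A)} (hx : x ∈ evenOdd (QA Q A) i) : Fmap φ Q x ∈ evenOdd (QA Q B) i := by
  rcases (by decide : ∀ j : ZMod 2, j = 0 ∨ j = 1) i with rfl | rfl
  · induction x, hx using CliffordAlgebra.even_induction with
    | algebraMap r => rw [Fmap_algebraMap]; exact SetLike.algebraMap_mem_graded _ _
    | add x y _ _ hx hy => rw [map_add]; exact add_mem hx hy
    | ι_mul_ι_mul a b x _ hx =>
      rw [map_mul, map_mul, Fmap_ι, Fmap_ι]
      simpa using SetLike.mul_mem_graded (ι_mul_ι_mem_evenOdd_zero _ _ _) hx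
  · induction x, hx using CliffordAlgebra.odd_induction with
    | ι v => rw [Fmap_ι]; exact ι_mem_evenOdd_one _ _
    | add x y _ _ hx hy => rw [map_add]; exact add_mem hx hy
    | ι_mul_ι_mul a b x _ hx =>
      rw [map_mul, map_mul, Fmap_ι, Fmap_ι]
      simpa using SetLike.mul_mem_graded (ι_mul_ι_mem_evenOdd_zero _ _ _) hx

theorem Fmap_decompose {A B : Type u} [CommRing A] [CommRing B] [Algebra R A] [Algebra R B] (φ : A →ₐ[R] B)
    (j : ZMod 2) (x : CliffordAlgebra (QA Q A)) :
    Fmap φ Q (DirectSum.decompose (evenOdd (QA Q A)) x j : CliffordAlgebra (QA Q A)) =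
      (DirectSum.decompose (evenOdd (QA Q B)) (Fmap φ Q x) j : CliffordAlgebra (QA Q B)) := by
  have h := congrArg (Fmap φ Q) (sum_decompose x)
  rw [map_add, sum_decompose (Fmap φ Q x)] at h
  set A0 := Fmap φ Q (DirectSum.decompose (evenOdd (QA Q A)) x 0 : CliffordAlgebra (QA Q A))
  set A1 := Fmap φ Q (DirectSum.decompose (evenOdd (QA Q A)) x 1 : CliffordAlgebra (QA Q A))
  set B0 := (DirectSum.decompose (evenOdd (QA Q B)) (Fmap φ Q x) 0 : CliffordAlgebra (QA Q B))
  set B1 := (DirectSum.decompose (evenOdd (QA Q B)) (Fmap φ Q x) 1 : CliffordAlgebra (QA Q B))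
  have hA0 : A0 ∈ evenOdd (QA Q B) 0 := Fmap_mem_evenOdd φ (SetLike.coe_mem _)
  have hA1 : A1 ∈ evenOdd (QA Q B) 1 := Fmap_mem_evenOdd φ (SetLike.coe_mem _)
  have hB0 : B0 ∈ evenOdd (QA Q B) 0 := SetLike.coe_mem _
  have hB1 : B1 ∈ evenOdd (QA Q B) 1 := SetLike.coe_mem _
  have e : A0 - B0 = B1 - A1 := sub_eq_sub_iff_add_eq_add.2 (h.symm.trans (add_comm _ _))
  have h0 : A0 - B0 = 0 := eq_zero_of_mem_mem (sub_mem hA0 hB0) (by rw [e]; exact sub_mem hB1 hA1)
  rcases (by decide : ∀ j : ZMod 2, j = 0 ∨ j = 1) j with rfl | rfl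
  · exact sub_eq_zero.1 h0
  · rw [h0] at e
    exact (sub_eq_zero.1 e.symm).symm

variable (p : CliffordAlgebra Q ⊗[R] (CliffordAlgebra Q)ᵐᵒᵖ) {I : Type u} [Fintype I]
  (c : Module.Basis I R (CliffordAlgebra Q))

section Inv

variable {A : Type u} [CommRing A] [Algebra R A]
  {g : (A ⊗[R] (Fin n → R)) ≃ₗ[A] (A ⊗[R] (Fin n → R))} (hg : g ∈ QuadGrp.O (QA Q A))

/-- The action of `g` on the generators. -/
def act : CliffordAlgebra Q →ₐ[R] CliffordAlgebra (QA Q A) := ((cmap hg).restrictScalars R).comp (bc Q A)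

/-- The twisted projections of the basis. -/
def T (i : I) : CliffordAlgebra (QA Q A) := sand (act hg) (bc Q A) p (bc Q A (c i))

/-- Their homogeneous parts. -/
def cp (j : ZMod 2) (i : I) : CliffordAlgebra (QA Q A) := ↑(DirectSum.decompose (evenOdd (QA Q A)) (T p c hg i) j)

variable {p}

theorem twist_vec (hp : IsSep p) (i : I) (v : A ⊗[R] (Fin n → R)) :
    ι (QA Q A) (g v) * T p c hg i = T p c hg i * ι (QA Q A) v := by
  have h : ∀ w : Fin n → R, ι (QA Q A) (g ((1 : A) ⊗ₜ[R] w)) * T p c hg i = T p c hg i * ι (QA Q A) ((1 : A) ⊗ₜ[R] w) := fun w => by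
    have := hp.twist (act hg) (bc Q A) (ι Q w) (bc Q A (c i))
    rw [show act hg (ι Q w) = cmap hg (bc Q A (ι Q w)) from rfl, bc_ι, cmap_ι] at this
    exact this
  induction v using TensorProduct.induction_on with
  | zero => simp
  | tmul a w =>
    rw [show a ⊗ₜ[R] w = a • ((1 : A) ⊗ₜ[R] w) by rw [TensorProduct.smul_tmul', smul_eq_mul, mul_one], map_smul, map_smul,
      map_smul, smul_mul_assoc, mul_smul_comm, h]
  | add x y hx hy => rw [map_add, map_add, map_add, add_mul, mul_add, hx, hy]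

theorem local_data (hQ : QuadGrp.IsRegular Q) (hn : n = 2 * m) (hp : IsSep p) (P : Ideal A) [P.IsMaximal] :
    (∀ r : A, (∀ i, r • bc (QA Q A) (Localization.AtPrime P) (T p c hg i) = 0) → algebraMap A (Localization.AtPrime P) r = 0) ∧
    (((∀ i, bc (QA Q A) (Localization.AtPrime P) (cp p c hg 1 i) = 0) ∧
        ∃ u : (CliffordAlgebra (QA (QA Q A) (Localization.AtPrime P)))ˣ,
          (u : CliffordAlgebra (QA (QA Q A) (Localization.AtPrime P))) ∈ evenOdd (QA (QA Q A) (Localization.AtPrime P)) 0 ∧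
            ∀ x, cmap (baseChange_mem_O (Localization.AtPrime P) hg) x *
              (u : CliffordAlgebra (QA (QA Q A) (Localization.AtPrime P))) =
                (u : CliffordAlgebra (QA (QA Q A) (Localization.AtPrime P))) * x) ∨
      ((∀ i, bc (QA Q A) (Localization.AtPrime P) (cp p c hg 0 i) = 0) ∧
        ¬ QuadGrp.IsDicksonTrivial (QA Q A) g hg)) := by
  classical
  let L := Localization.AtPrime P
  haveI : Nontrivial R := (algebraMap R L).domain_nontrivial
  haveI : Nontrivial A := (algebraMap A L).domain_nontrivial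
  have hQ' := isRegular_QA Q A hQ
  have hM : Module.finrank A (A ⊗[R] (Fin n → R)) = 2 * m := by rw [Module.finrank_baseChange, Module.finrank_fin_fun, hn]
  have htw : ∀ i, ∀ v : L ⊗[A] (A ⊗[R] (Fin n → R)),
      bc (QA Q A) L (T p c hg i) * ι (QA (QA Q A) L) v =
        ι (QA (QA Q A) L) (g.baseChange A L _ _ v) * bc (QA Q A) L (T p c hg i) := by
    intro i v
    induction v using TensorProduct.induction_on with
    | zero => simp
    | tmul a w =>
      rw [LinearEquiv.baseChange_tmul, show a ⊗ₜ[A] w = a • ((1 : L) ⊗ₜ[A] w) by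
          rw [TensorProduct.smul_tmul', smul_eq_mul, mul_one],
        show a ⊗ₜ[A] g w = a • ((1 : L) ⊗ₜ[A] g w) by rw [TensorProduct.smul_tmul', smul_eq_mul, mul_one],
        map_smul, map_smul, mul_smul_comm, smul_mul_assoc, ← bc_ι, ← bc_ι, ← map_mul, ← map_mul, twist_vec c hg hp]
    | add x y hx hy => rw [map_add, map_add, map_add, add_mul, mul_add, hx, hy]
  -- the intertwiner
  obtain ⟨z, hz, hcase⟩ := local_cases hQ' hM hg L
  have hu : ∃ u : (CliffordAlgebra (QA (QA Q A) L))ˣ,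
      (∀ x, cmap (baseChange_mem_O L hg) x * (u : CliffordAlgebra (QA (QA Q A) L)) = (u : CliffordAlgebra (QA (QA Q A) L)) * x) ∧
      ((u : CliffordAlgebra (QA (QA Q A) L)) ∈ evenOdd (QA (QA Q A) L) 0 ∨
        (u : CliffordAlgebra (QA (QA Q A) L)) ∈ evenOdd (QA (QA Q A) L) 1 ∧ ¬ QuadGrp.IsDicksonTrivial (QA Q A) g hg) := by
    rcases hcase with ⟨-, -, u, h0, hc⟩ | ⟨-, hcz, u, h1, hc⟩
    · exact ⟨u, cmap_mul_of_even _ _ hc, Or.inl h0⟩
    · refine ⟨u * hz.W, fun x => ?_, Or.inr ⟨?_, fun ht => not_odd_of_isDicksonTrivial hQ' hM ht P hz hcz⟩⟩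
      · rw [Units.val_mul, ← mul_assoc, cmap_mul_of_odd _ _ hc, mul_assoc, ← mul_eq_involute_mul _ hz.anti_W x, mul_assoc]
      · rw [Units.val_mul]
        simpa using SetLike.mul_mem_graded h1 hz.W_mem
  obtain ⟨u, huc, hpar⟩ := hu
  have hspan : ∀ i, ∃ r : L, bc (QA Q A) L (T p c hg i) = r • (u : CliffordAlgebra (QA (QA Q A) L)) := fun i =>
    eq_smul_of_conj hz (isRegular_QA _ L hQ') _ u huc (cmap_mul_of_even _ _ (htw i))
  -- the projection fixes the intertwiner
  have hfix : ∀ r : A, (∀ i, r • bc (QA Q A) L (T p c hg i) = 0) →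
      algebraMap A L r • (u : CliffordAlgebra (QA (QA Q A) L)) = 0 := by
    intro r hr
    let α : CliffordAlgebra Q →ₐ[R] CliffordAlgebra (QA (QA Q A) L) :=
      ((bc (QA Q A) L).restrictScalars R).comp (act hg)
    let β : CliffordAlgebra Q →ₐ[R] CliffordAlgebra (QA (QA Q A) L) := ((bc (QA Q A) L).restrictScalars R).comp (bc Q A)
    have hα : ∀ x, α x * (u : CliffordAlgebra (QA (QA Q A) L)) = (u : CliffordAlgebra (QA (QA Q A) L)) * β x := fun x => by
      change bc (QA Q A) L (cmap hg (bc Q A x)) * _ = _ * bc (QA Q A) L (bc Q A x)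
      rw [cmap_bc, huc]
    rw [← hp.fix α β hα, ← (bcBasis (QA Q A) L (bcBasis Q A c)).sum_repr (u : CliffordAlgebra (QA (QA Q A) L)), map_sum,
      Finset.smul_sum]
    refine Finset.sum_eq_zero fun i _ => ?_
    rw [sand_smul, bcBasis_apply, bcBasis_apply,
      show bc (QA Q A) L (bc Q A (c i)) = ((bc (QA Q A) L).restrictScalars R) (bc Q A (c i)) from rfl, ← map_sand,
      AlgHom.restrictScalars_apply, smul_comm, algebraMap_smul]
    exact (congrArg (_ • ·) (hr i)).trans (smul_zero _)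
  refine ⟨fun r hr => ?_, ?_⟩
  · have h := hfix r hr
    rw [Algebra.smul_def, ← Units.eq_mul_inv_iff_mul_eq, zero_mul] at h
    exact algebraMap_injective (QA (QA Q A) L) (h.trans (map_zero _).symm)
  · have hcomp : ∀ j : ZMod 2, (u : CliffordAlgebra (QA (QA Q A) L)) ∈ evenOdd (QA (QA Q A) L) j →
        ∀ i, bc (QA Q A) L (cp p c hg (j + 1) i) = 0 := by
      intro j hj i
      obtain ⟨r, hr⟩ := hspan i
      have hT : bc (QA Q A) L (T p c hg i) ∈ evenOdd (QA (QA Q A) L) j := by rw [hr]; exact Submodule.smul_mem _ _ hj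
      have h0 := bc_mem_evenOdd (QA Q A) L (SetLike.coe_mem (DirectSum.decompose (evenOdd (QA Q A)) (T p c hg i) 0))
      have h1 := bc_mem_evenOdd (QA Q A) L (SetLike.coe_mem (DirectSum.decompose (evenOdd (QA Q A)) (T p c hg i) 1))
      rw [sum_decompose (T p c hg i), map_add] at hT
      rcases (by decide : ∀ j : ZMod 2, j = 0 ∨ j = 1) j with rfl | rfl
      · rw [zero_add]
        exact eq_zero_of_mem_mem (by simpa [cp] using sub_mem hT h0) h1
      · rw [show (1 : ZMod 2) + 1 = 0 from rfl]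
        exact eq_zero_of_mem_mem h0 (by simpa [cp] using sub_mem hT h1)
    rcases hpar with h0 | ⟨h1, hD⟩
    · exact Or.inl ⟨by simpa using hcomp 0 h0, u, h0, huc⟩
    · exact Or.inr ⟨by simpa [show (1 : ZMod 2) + 1 = 0 from rfl] using hcomp 1 h1, hD⟩

theorem eq_zero_of_smul_T (hQ : QuadGrp.IsRegular Q) (hn : n = 2 * m) (hp : IsSep p) {r : A}
    (h : ∀ i, r • T p c hg i = 0) : r = 0 := by
  apply algebraMap_injective (QA Q A)
  rw [map_zero]
  refine eq_of_forall_bc_eq fun P _ => ?_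
  rw [AlgHom.commutes, map_zero, IsScalarTower.algebraMap_apply A (Localization.AtPrime P),
    (local_data c hg hQ hn hp P).1 r (fun i => by rw [← map_smul, h, map_zero]), map_zero]

theorem isDicksonTrivial_iff (hQ : QuadGrp.IsRegular Q) (hn : n = 2 * m) (hp : IsSep p) :
    QuadGrp.IsDicksonTrivial (QA Q A) g hg ↔ ∀ i, cp p c hg 1 i = 0 := by
  constructor
  · intro ht i
    refine eq_of_forall_bc_eq fun P _ => ?_
    rw [map_zero]
    rcases (local_data c hg hQ hn hp P).2 with ⟨h1, -⟩ | ⟨-, hD⟩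
    · exact h1 i
    · exact absurd ht hD
  · intro h
    refine isDicksonTrivial_of_forall hg fun P _ => ?_
    rcases (local_data c hg hQ hn hp P).2 with ⟨-, hu⟩ | ⟨h0, -⟩
    · exact hu
    · haveI : Nontrivial (Localization.AtPrime P) := inferInstance
      refine absurd ((local_data c hg hQ hn hp P).1 1 fun i => ?_) (by rw [map_one]; exact one_ne_zero)
      rw [one_smul, sum_decompose (T p c hg i), map_add]
      change bc _ _ (cp p c hg 0 i) + bc _ _ (cp p c hg 1 i) = 0
      rw [h0, h, map_zero, add_zero]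

theorem exists_idem (hQ : QuadGrp.IsRegular Q) (hn : n = 2 * m) (hp : IsSep p) :
    ∃ e f : A, e + f = 1 ∧ e * f = 0 ∧ (∀ i, e • cp p c hg 1 i = 0) ∧ ∀ i, f • cp p c hg 0 i = 0 := by
  classical
  let J : ZMod 2 → Ideal A := fun j => ⨅ i, LinearMap.ker (LinearMap.toSpanSingleton A _ (cp p c hg j i))
  have hJ : ∀ j r, r ∈ J j ↔ ∀ i, r • cp p c hg j i = 0 := fun j r => by simp [J]
  have htop : J 1 ⊔ J 0 = ⊤ := by
    by_contra h
    obtain ⟨P, hP, hle⟩ := Ideal.exists_le_maximal _ h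
    have key : ∀ j, (∀ i, bc (QA Q A) (Localization.AtPrime P) (cp p c hg j i) = 0) → J j ≤ P → False := by
      intro j hj hjP
      choose s hs hs0 using fun i => exists_smul_eq_zero P (hj i)
      have : ∏ i, s i ∈ J j := (hJ j _).2 fun i => by
        rw [← Finset.prod_erase_mul _ _ (Finset.mem_univ i), mul_smul, hs0 i, smul_zero]
      obtain ⟨i, -, hi⟩ := (Ideal.IsPrime.prod_mem_iff (p := P)).1 (hjP this)
      exact hs i hi
    rcases (local_data c hg hQ hn hp P).2 with ⟨h1, -⟩ | ⟨h0, -⟩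
    · exact key 1 h1 (le_sup_left.trans hle)
    · exact key 0 h0 (le_sup_right.trans hle)
  obtain ⟨e, he, f, hf, hef1⟩ := Submodule.mem_sup.1 (htop ▸ Submodule.mem_top : (1 : A) ∈ J 1 ⊔ J 0)
  refine ⟨e, f, hef1, eq_zero_of_smul_T c hg hQ hn hp fun i => ?_, (hJ 1 e).1 he, (hJ 0 f).1 hf⟩
  rw [sum_decompose (T p c hg i), smul_add]
  change (e * f) • cp p c hg 0 i + (e * f) • cp p c hg 1 i = 0
  rw [mul_smul e f (cp p c hg 0 i), (hJ 0 f).1 hf i, smul_zero, zero_add, mul_comm, mul_smul, (hJ 1 e).1 he i, smul_zero]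

end Inv

section Univ

open Groth.Misc12.Quad (stdB OK betaM Coord univMat)
open Groth.Misc12.Cliff.SOPrime (geq geq_mem)

variable (Q)

/-- An idempotent of the coordinate ring of the orthogonal group cutting out the Dickson kernel. -/
theorem exists_dickson (hQ : QuadGrp.IsRegular Q) (hn : n = 2 * m) :
    ∃ e f : Coord (betaM Q) false, e + f = 1 ∧ e * f = 0 ∧
      ∀ (A : Type u) [CommRing A] [Algebra R A] (φ : Coord (betaM Q) false →ₐ[R] A) {G : Matrix (Fin n) (Fin n) A}
        (h : OK (betaM Q) false A G), (univMat (betaM Q) false).map φ = G →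
        (QuadGrp.IsDicksonTrivial (QA Q A) (geq h) (geq_mem h) ↔ φ f = 0) := by
  classical
  haveI := free Q
  haveI := finite Q
  rcases subsingleton_or_nontrivial R with hR | hR
  · refine ⟨1, 0, add_zero 1, mul_zero 1, fun A _ _ φ G h _ => ?_⟩
    haveI : Subsingleton A := Module.subsingleton R A
    exact ⟨fun _ => map_zero φ, fun _ z _ => by
      haveI := Module.subsingleton A (CliffordAlgebra (QA Q A)); exact Subsingleton.elim _ _⟩
  obtain ⟨p, hp⟩ := exists_sep_global hQ (m := m) (by rw [Module.finrank_fin_fun, hn])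
  let c := Module.Free.chooseBasis R (CliffordAlgebra Q)
  have hU : OK (betaM Q) false (Coord (betaM Q) false) (univMat (betaM Q) false) := Quad.univMat_ok _ _
  obtain ⟨e, f, hef1, hef, he, hf⟩ := exists_idem c (geq_mem hU) hQ hn hp
  refine ⟨e, f, hef1, hef, fun A _ _ φ G h hG => ?_⟩
  have hT : ∀ i, Fmap φ Q (T p c (geq_mem hU) i) = T p c (geq_mem h) i := by
    intro i
    have hact : (Fmap φ Q).comp (act (geq_mem hU)) = act (geq_mem h) :=
      AlgHom.ext fun x => SOPrime.Fmap_cmap φ hU h hG x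
    have hbc : (Fmap φ Q).comp (bc Q _) = bc Q A := AlgHom.ext fun x => Fmap_bc φ x
    rw [T, map_sand, Fmap_bc, hact, hbc]
    rfl
  have hcp : ∀ j i, Fmap φ Q (cp p c (geq_mem hU) j i) = cp p c (geq_mem h) j i := fun j i => by
    rw [cp, Fmap_decompose, hT]
    rfl
  have he' : ∀ i, φ e • cp p c (geq_mem h) 1 i = 0 := fun i => by rw [← hcp, ← Fmap_smul, he, map_zero]
  have hf' : ∀ i, φ f • cp p c (geq_mem h) 0 i = 0 := fun i => by rw [← hcp, ← Fmap_smul, hf, map_zero]
  rw [isDicksonTrivial_iff c (geq_mem h) hQ hn hp]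
  constructor
  · intro h1
    refine eq_zero_of_smul_T c (geq_mem h) hQ hn hp fun i => ?_
    rw [sum_decompose (T p c (geq_mem h) i), smul_add]
    change φ f • cp p c (geq_mem h) 0 i + φ f • cp p c (geq_mem h) 1 i = 0
    rw [hf', h1, smul_zero, add_zero]
  · intro hf0 i
    have : φ e = 1 := by
      have := congrArg φ hef1
      rwa [map_add, hf0, add_zero, map_one] at this
    have h2 := he' i
    rwa [this, one_smul] at h2

end Univ

end Groth.Misc12.Cliff.Conn.Even
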