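import Groth.Agent.Misc12.Cliff.Conn.Orth
import Groth.Agent.Misc12.Cliff.Conn.Even

/-!
The scheme of Dickson-trivial isometries: representing it, and its points over an infinite field as even words.
-/

set_option autoImplicit false
set_option linter.unusedSectionVars false

noncomputable section

open CategoryTheory AlgebraicGeometry QuadraticMap CliffordAlgebra
open scoped TensorProduct

universe u

namespace Groth.Misc12.Cliff.Conn

open Groth.Misc12.Quad (stdB OK betaM Coord univMat)

variable {R : Type u} [CommRing R] {n : ℕ}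

open MonObj in
/-- Representing by a basic open of the orthogonal group. -/
theorem exists_iso_away
    (S : ∀ (A : Type u) [CommRing A] [Algebra R A], Subgroup ((A ⊗[R] (Fin n → R)) ≃ₗ[A] (A ⊗[R] (Fin n → R))))
    (G : Over (Spec (CommRingCat.of R))) [GrpObj G] (D : QuadGrp.LinRep R (Fin n → R) S G)
    (β : Matrix (Fin n) (Fin n) R) (s : Bool) (e : Coord β s)
    (hS : ∀ (A : Type u) [CommRing A] [Algebra R A] (h : (A ⊗[R] (Fin n → R)) ≃ₗ[A] (A ⊗[R] (Fin n → R))),
      h ∈ S A ↔ ∃ φ : Coord β s →ₐ[R] A,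
        (univMat β s).map φ = LinearMap.toMatrix (stdB A) (stdB A) h.toLinearMap ∧ IsUnit (φ e)) :
    ∃ u : Spec (CommRingCat.of (Localization.Away e)) ⟶ G.left, IsIso u ∧
      u ≫ G.hom = Spec.map (CommRingCat.ofHom (algebraMap R (Localization.Away e))) := by
  classical
  set C := Localization.Away e
  let loc : Coord β s →ₐ[R] C := IsScalarTower.toAlgHom R (Coord β s) C
  have hU : OK β s C ((univMat β s).map loc) := (Quad.univMat_ok β s).map _ _ loc
  let h0 : (C ⊗[R] (Fin n → R)) ≃ₗ[C] (C ⊗[R] (Fin n → R)) := Matrix.toLinearEquiv (stdB C) _ hU.1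
  have h0m : LinearMap.toMatrix (stdB C) (stdB C) h0.toLinearMap = (univMat β s).map loc := LinearMap.toMatrix_toLin _ _ _
  have hmem : h0 ∈ S C := (hS C h0).2 ⟨loc, h0m.symm, IsLocalization.Away.algebraMap_isUnit e⟩
  let e0 : ↥(S C) := ⟨h0, hmem⟩
  let u : QuadGrp.specOver R C ⟶ G := MulEquiv.symm (D.pts C) e0
  have hnat : ∀ (A : Type u) [CommRing A] [Algebra R A] (φ : C →ₐ[R] A),
      LinearMap.toMatrix (stdB A) (stdB A) ((D.pts A (QuadGrp.specOverMap R φ ≫ u) : ↥(S A)) : (A ⊗[R] (Fin n → R)) ≃ₗ[A] (A ⊗[R] (Fin n → R))).toLinearMap =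
        (univMat β s).map (φ.comp loc) := by
    intro A _ _ φ
    ext i j
    rw [LinearMap.toMatrix_apply, Matrix.map_apply, Quad.stdB_apply, LinearEquiv.coe_toLinearMap, D.natural C A φ u,
      Quad.repr_rTensor, MulEquiv.apply_symm_apply, AlgHom.comp_apply]
    congr 1
    have := congrFun (congrFun h0m i) j
    rwa [LinearMap.toMatrix_apply, Quad.stdB_apply] at this
  have hloc : ∀ (A : Type u) [CommRing A] [Algebra R A] (φ ψ : C →ₐ[R] A), φ.comp loc = ψ.comp loc → φ = ψ :=
    fun A _ _ φ ψ h => AlgHom.coe_ringHom_injective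
      (IsLocalization.ringHom_ext (Submonoid.powers e) (RingHom.ext fun x => DFunLike.congr_fun h x))
  have hpts : ∀ (A : Type u) [CommRing A] [Algebra R A],
      Function.Bijective fun y : QuadGrp.specOver R A ⟶ QuadGrp.specOver R C => y ≫ u := by
    intro A _ _
    have hy : ∀ y : QuadGrp.specOver R A ⟶ QuadGrp.specOver R C, ∃ φ : C →ₐ[R] A, y = QuadGrp.specOverMap R φ := by
      intro y
      obtain ⟨f, hf⟩ := Spec.map_surjective y.left
      have hw := Over.w y
      change y.left ≫ Spec.map _ = Spec.map _ at hw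
      have hw2 : Spec.map (CommRingCat.ofHom (algebraMap R C) ≫ f) = Spec.map (CommRingCat.ofHom (algebraMap R A)) :=
        (Spec.map_comp _ _).trans ((congrArg (fun e => e ≫ Spec.map (CommRingCat.ofHom (algebraMap R C))) hf).trans hw)
      have hw' := CommRingCat.hom_ext_iff.1 (Spec.map_injective hw2)
      exact ⟨⟨f.hom, fun r => RingHom.congr_fun hw' r⟩, Over.OverMorphism.ext hf.symm⟩
    constructor
    · intro y y' hyy
      obtain ⟨φ, rfl⟩ := hy y
      obtain ⟨φ', rfl⟩ := hy y'
      have h1 := hnat A φ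
      rw [show QuadGrp.specOverMap R φ ≫ u = QuadGrp.specOverMap R φ' ≫ u from hyy, hnat A φ'] at h1
      rw [hloc A φ φ' (Quad.coord_ext β s h1.symm)]
    · intro g
      obtain ⟨φ, hφ, hφe⟩ := (hS A _).1 (D.pts A g).2
      let φ' : C →ₐ[R] A := IsLocalization.Away.liftAlgHom e (f := φ) hφe
      have hφ' : φ'.comp loc = φ := AlgHom.ext fun x => IsLocalization.Away.lift_eq e hφe x
      refine ⟨QuadGrp.specOverMap R φ', (D.pts A).injective (Subtype.ext (LinearEquiv.toLinearMap_injective
        ((LinearMap.toMatrix (stdB A) (stdB A)).injective ((hnat A φ').trans (by rw [hφ']; exact hφ)))))⟩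
  exact ⟨u.left, Quad.isIso_of_points u hpts, Over.w u⟩

theorem EvenWord.isDicksonTrivial {A : Type u} [CommRing A] {M : Type u} [AddCommGroup M] [Module A M]
    {P : QuadraticForm A M} {g : M ≃ₗ[A] M} (h : EvenWord P g) : g ∈ QuadGrp.SOeven P := by
  induction h with
  | one => exact one_mem _
  | @step g v w hv hw _ ih =>
    rw [mul_assoc]
    refine mul_mem ih ?_
    let uv : (CliffordAlgebra P)ˣ := (isUnit_ι_of_isUnit P hv).unit
    let uw : (CliffordAlgebra P)ˣ := (isUnit_ι_of_isUnit P hw).unit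
    have hc : ∀ (v : M) (hv : IsUnit (P v)) x, ι P v * ι P x = -(ι P (refl P v hv x) * ι P v) := fun v hv x => by
      rw [refl_apply, map_sub, map_smul, sub_mul, smul_mul_assoc, ι_sq_scalar, neg_sub]
      rw [eq_sub_iff_add_eq, ι_mul_ι_add_swap, Algebra.smul_def, ← map_mul, mul_assoc]
      congr 1
      linear_combination -(polar P v x) * hv.val_inv_mul
    refine ⟨mul_mem (refl_mem_O v hv) (refl_mem_O w hw),
      isDicksonTrivial_of_even _ (uv * uw) (by simp [uv, uw, ι_mul_ι_mem_evenOdd_zero]) fun x => ?_⟩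
    change ι P v * ι P w * ι P x = ι P (refl P v hv (refl P w hw x)) * (ι P v * ι P w)
    rw [mul_assoc, hc w hw, mul_neg, ← mul_assoc, hc v hv, neg_mul, neg_neg, mul_assoc]

/-- Over an infinite field the Dickson-trivial isometries are the even words. -/
theorem evenWord_of_isDicksonTrivial {k : Type u} [Field k] [Infinite k] {M : Type u} [AddCommGroup M] [Module k M]
    [Module.Free k M] [Module.Finite k M] {P : QuadraticForm k M} (hP : QuadGrp.IsRegular P) {m : ℕ} (hm : 1 ≤ m)
    (hM : Module.finrank k M = 2 * m) {g : M ≃ₗ[k] M} (hg : g ∈ QuadGrp.SOeven P) : EvenWord P g := by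
  have hinf : Infinite (IsLocalRing.ResidueField k) := Infinite.of_injective _ (IsLocalRing.residue k).injective
  obtain ⟨Pl⟩ := exists_planes (Q := P) hP hM
  obtain ⟨z, hz⟩ := Pl.exists_isZ hM
  let v₀ := Pl.a ⟨0, hm⟩
  have h₀ : IsUnit (P v₀) := Pl.aniso _
  obtain ⟨hgO, -⟩ := id hg
  rcases evenWord_or (mem_reflGroup hinf hM Pl hgO) v₀ h₀ with h | h
  · exact h
  · exfalso
    have h2 : refl P v₀ h₀ ∈ QuadGrp.SOeven P := by
      have := mul_mem (inv_mem hg) h.isDicksonTrivial
      rwa [inv_mul_cancel_left] at this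
    obtain ⟨hr, hd⟩ := h2
    refine not_isDicksonTrivial_of_odd _ hz (isUnit_ι_of_isUnit P h₀).unit
      (by simp [ι_mem_evenOdd_one]) (fun x => ?_) hd
    change ι P v₀ * ι P x = -(ι P (refl P v₀ h₀ x) * ι P v₀)
    rw [refl_apply, map_sub, map_smul, sub_mul, smul_mul_assoc, ι_sq_scalar, neg_sub,
      eq_sub_iff_add_eq, ι_mul_ι_add_swap, Algebra.smul_def, ← map_mul, mul_assoc]
    congr 1
    linear_combination -(polar P v₀ x) * h₀.val_inv_mul

end Groth.Misc12.Cliff.Conn
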