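import Mathlib.AlgebraicGeometry.Fiber
import Mathlib.AlgebraicGeometry.Pullbacks
import Mathlib.RingTheory.Jacobson.Ring
import Mathlib.FieldTheory.IsAlgClosed.AlgebraicClosure
import Mathlib.RingTheory.Spectrum.Prime.Topology
import Mathlib.FieldTheory.IsAlgClosed.Basic

/-!
Connectedness of geometric fibres of affine schemes from their points.
-/

set_option autoImplicit false

noncomputable section

open CategoryTheory CategoryTheory.Limits AlgebraicGeometry
open scoped TensorProduct

universe u

namespace Groth.Misc12.Conn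

theorem connectedSpace_of_idem (k T : Type u) [Field k] [IsAlgClosed k] [CommRing T] [Algebra k T]
    [Algebra.FiniteType k T] (χ₁ : T →ₐ[k] k) (h : ∀ χ : T →ₐ[k] k, ∀ e, IsIdempotentElem e → χ e = χ₁ e) :
    ConnectedSpace (PrimeSpectrum T) := by
  haveI : Nontrivial T := χ₁.toRingHom.domain_nontrivial
  haveI : IsJacobsonRing T := isJacobsonRing_of_finiteType (A := k)
  have h0 : ∀ e : T, IsIdempotentElem e → χ₁ e = 0 → e = 0 := by
    intro e he he0
    have hmax : ∀ m : Ideal T, m.IsMaximal → e ∈ m := by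
      intro m hm
      letI := Ideal.Quotient.field m
      haveI : Algebra.FiniteType k (T ⧸ m) := Algebra.FiniteType.trans ‹_› inferInstance
      haveI : Module.Finite k (T ⧸ m) := finite_of_finite_type_of_isJacobsonRing k (T ⧸ m)
      let ee := AlgEquiv.ofBijective (Algebra.ofId k (T ⧸ m)) IsAlgClosed.algebraMap_bijective_of_isIntegral
      have h' := h (ee.symm.toAlgHom.comp (Ideal.Quotient.mkₐ k m)) e he
      rw [he0] at h'
      exact Ideal.Quotient.eq_zero_iff_mem.1 (ee.symm.injective (h'.trans (map_zero _).symm))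
    have hu : IsUnit (1 - e) := by
      by_contra hu
      obtain ⟨m, hm, hle⟩ := Ideal.exists_le_maximal (Ideal.span {1 - e}) (by rwa [Ne, Ideal.span_singleton_eq_top])
      exact hm.ne_top ((Ideal.eq_top_iff_one _).2 (by
        simpa using add_mem (hle (Ideal.mem_span_singleton_self _)) (hmax m hm)))
    exact hu.mul_left_cancel (by rw [mul_zero, sub_mul, one_mul, he.eq, sub_self])
  haveI : Nonempty (PrimeSpectrum T) := inferInstance
  haveI : PreconnectedSpace (PrimeSpectrum T) := by
    rw [preconnectedSpace_iff_clopen]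
    intro s hs
    obtain ⟨e, he, rfl⟩ := PrimeSpectrum.exists_idempotent_basicOpen_eq_of_isClopen hs
    have h01 : χ₁ e = 0 ∨ χ₁ e = 1 := IsIdempotentElem.iff_eq_zero_or_one.1 (he.map χ₁.toRingHom)
    rcases h01 with h' | h'
    · left; rw [h0 e he h']; simp
    · right
      have : e = 1 := (sub_eq_zero.1 (h0 (1 - e) he.one_sub (by rw [map_sub, map_one, h', sub_self]))).symm
      rw [this]; simp
  exact ⟨inferInstance⟩

theorem connectedSpace_fiber {R S : Type u} [CommRing R] [CommRing S] [Algebra R S] {X : Scheme.{u}}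
    (f : X ⟶ Spec (CommRingCat.of R)) (u : Spec (CommRingCat.of S) ⟶ X) [IsIso u]
    (huf : u ≫ f = Spec.map (CommRingCat.ofHom (algebraMap R S)))
    (h : ∀ (k : Type u) [Field k] [IsAlgClosed k] [Algebra R k], ConnectedSpace (PrimeSpectrum (k ⊗[R] S)))
    (s : ↥(Spec (CommRingCat.of R))) : ConnectedSpace ↥(f.fiber s) := by
  let κ := (Spec (CommRingCat.of R)).residueField s
  let k := AlgebraicClosure κ
  let g : Spec (CommRingCat.of k) ⟶ Spec (CommRingCat.of R) :=
    Spec.map (CommRingCat.ofHom (algebraMap κ k)) ≫ (Spec (CommRingCat.of R)).fromSpecResidueField s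
  letI : Algebra R k := (Spec.preimage g).hom.toAlgebra
  have hg : Spec.map (CommRingCat.ofHom (algebraMap R k)) = g := Spec.map_preimage g
  have hgr : Set.range g = {s} := by
    haveI : Subsingleton ↥(Spec (CommRingCat.of k)) := inferInstanceAs (Subsingleton (PrimeSpectrum k))
    haveI : Nonempty ↥(Spec (CommRingCat.of k)) := inferInstanceAs (Nonempty (PrimeSpectrum k))
    refine Set.eq_singleton_iff_nonempty_unique_mem.2 ⟨Set.range_nonempty _, ?_⟩
    rintro _ ⟨x, rfl⟩
    have : g x ∈ Set.range ((Spec (CommRingCat.of R)).fromSpecResidueField s) :=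
      ⟨Spec.map (CommRingCat.ofHom (algebraMap κ k)) x, rfl⟩
    rwa [Scheme.range_fromSpecResidueField] at this
  have hpre : f ⁻¹' {s} = Set.range ((Spec.map (CommRingCat.ofHom
      (Algebra.TensorProduct.includeLeftRingHom : S →+* S ⊗[R] k))) ≫ u) := by
    rw [← pullbackSpecIso_inv_fst R S k, Category.assoc]
    have hr : ∀ {W Y Z : Scheme.{u}} (a : W ⟶ Y) (b : Y ⟶ Z), Set.range (a ≫ b) = b '' Set.range a := fun a b => by
      rw [← Set.range_comp]; rfl
    rw [hr (pullbackSpecIso R S k).inv,
      show Set.range ⇑(pullbackSpecIso R S k).inv = Set.univ from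
        Set.range_eq_univ.2 (pullbackSpecIso R S k).inv.homeomorph.surjective]
    rw [Set.image_univ, hr (pullback.fst _ _), Scheme.Pullback.range_fst, hg, hgr]
    have hu : Function.Surjective u := (asIso u).hom.homeomorph.surjective
    ext x
    obtain ⟨y, rfl⟩ := hu x
    have : f (u y) = Spec.map (CommRingCat.ofHom (algebraMap R S)) y := by rw [← huf]; rfl
    simp only [Set.mem_preimage, Set.mem_singleton_iff, this, Set.mem_image]
    refine ⟨fun h => ⟨y, h, rfl⟩, fun ⟨z, hz, he⟩ => ?_⟩
    rwa [(asIso u).hom.homeomorph.injective he] at hz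
  haveI : ConnectedSpace (PrimeSpectrum (S ⊗[R] k)) := by
    rw [← (PrimeSpectrum.homeomorphOfRingEquiv (Algebra.TensorProduct.comm R S k).toRingEquiv).connectedSpace_iff.symm]
    exact h k
  haveI : ConnectedSpace ↥(Spec (CommRingCat.of (S ⊗[R] k))) := inferInstanceAs (ConnectedSpace (PrimeSpectrum (S ⊗[R] k)))
  haveI : ConnectedSpace ↥(f ⁻¹' {s}) := by
    rw [hpre]
    exact isConnected_iff_connectedSpace.1 (isConnected_range (Scheme.Hom.continuous _))
  exact (f.fiberHomeo s).connectedSpace_iff.2 inferInstance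

end Groth.Misc12.Conn
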