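import Groth.Agent.Misc12.Cliff.Conn.Orth
import Groth.Agent.Misc12.Cliff.Odd.Main

/-!
In odd rank the isometries of determinant one over an infinite field are even products of reflections.
-/

set_option autoImplicit false
set_option linter.unusedSectionVars false

noncomputable section

open QuadraticMap
open scoped TensorProduct

universe u

namespace Groth.Misc12.Cliff.Conn

theorem evenWord_of_frame {k : Type u} [Field k] [Infinite k] {M : Type u} [AddCommGroup M] [Module k M] [Module.Free k M]
    [Module.Finite k M] {P : QuadraticForm k M} {m : ℕ} (F : Frame P m) {g : M ≃ₗ[k] M} (hg : g ∈ QuadGrp.O P)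
    (hdet : LinearMap.det g.toLinearMap = 1) : EvenWord P g := by
  have hinf : Infinite (IsLocalRing.ResidueField k) :=
    Infinite.of_injective _ (IsLocalRing.residue k).injective
  obtain ⟨s, hs, c, hc, -, -, -, hv⟩ := F.decomp hinf hg
  have hrf : ∀ v, polar P F.f v = 2 * P F.f * F.coF v := fun v => by
    obtain ⟨d, hd⟩ := F.exists_coord v
    conv_lhs => rw [hd, polar_add_right, F.polar_f_L, polar_smul_right, polar_self, zero_add, nsmul_eq_mul, smul_eq_mul]
    push_cast
    ring
  have href : ∀ v, refl P F.f F.hf v = F.P.proj v + (-F.coF v) • F.f := fun v => by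
    rw [refl_apply, hrf]
    conv_lhs => arg 1; rw [← F.span v]
    rw [add_sub_assoc, ← sub_smul]
    congr 2
    linear_combination (-2 * F.coF v) * F.hf.val_inv_mul
  have hsg : s * g = 1 ∨ s * g = refl P F.f F.hf := by
    rcases mul_self_eq_one_iff.1 hc with rfl | rfl
    · exact Or.inl (LinearEquiv.ext fun v => by rw [hv, one_mul, F.span]; rfl)
    · exact Or.inr (LinearEquiv.ext fun v => by rw [hv, href, neg_one_mul])
  have hmem : g ∈ reflGroup P := by
    rcases hsg with h | h
    · rw [eq_inv_of_mul_eq_one_right h]; exact inv_mem hs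
    · rw [show g = s⁻¹ * refl P F.f F.hf by rw [← h, inv_mul_cancel_left]]
      exact mul_mem (inv_mem hs) (refl_mem _ _)
  rcases evenWord_or hmem F.f F.hf with h | h
  · exact h
  · have hd' := h.det
    rw [LinearEquiv.coe_toLinearMap_mul, map_mul, hdet, det_refl, one_mul] at hd'
    have h2 : (2 : k) = 0 := by linear_combination -hd'
    have : refl P F.f F.hf = 1 := LinearEquiv.ext fun v =>
      refl_of_polar_eq_zero _ F.hf v (by rw [hrf, h2, zero_mul, zero_mul])
    rwa [this, mul_one] at h

theorem evenWord_of_det_eq_one {R : Type u} [CommRing R] {m : ℕ} {Q : QuadraticForm R (Fin (2 * m + 1) → R)}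
    (hQ : QuadGrp.IsSemiregular (Pi.basisFun R (Fin (2 * m + 1))) (LinearEquiv.refl R R) Q)
    (k : Type u) [Field k] [IsAlgClosed k] [Algebra R k]
    {g : (k ⊗[R] (Fin (2 * m + 1) → R)) ≃ₗ[k] (k ⊗[R] (Fin (2 * m + 1) → R))} (hg : g ∈ QuadGrp.O (QA Q k))
    (hdet : LinearMap.det g.toLinearMap = 1) : EvenWord (QA Q k) g := by
  obtain ⟨F⟩ := exists_frame (R := k) (Q := QA Q k) (isSemiregular_QA hQ k)
  exact evenWord_of_frame F hg hdet

end Groth.Misc12.Cliff.Conn
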