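import Groth.Agent.Misc12.Cliff.Conn.General
import Groth.Agent.Misc12.Cliff.SOPrime
import Mathlib.RingTheory.Localization.Away.Basic
import Mathlib.Algebra.MvPolynomial.Eval

/-!
Isometries that are products of an even number of reflections are linked to the identity by curves through domains.
-/

set_option autoImplicit false
set_option linter.unusedSectionVars false

noncomputable section

open QuadraticMap
open scoped TensorProduct Matrix

universe u

namespace Groth.Misc12.Cliff.Conn

open Groth.Misc12.Quad (stdB OK betaM Coord univMat beta)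

variable {R : Type u} [CommRing R] {n : ℕ} (Q : QuadraticForm R (Fin n → R))

/-- The vector with given coordinates. -/
def vec (A : Type u) [CommRing A] [Algebra R A] (c : Fin n → A) : A ⊗[R] (Fin n → R) :=
  ∑ i, c i • stdB (R := R) A i

theorem repr_vec (A : Type u) [CommRing A] [Algebra R A] (c : Fin n → A) (i : Fin n) :
    (stdB (R := R) A).repr (vec A c) i = c i := by
  rw [vec, Module.Basis.repr_sum_self]

theorem vec_repr (A : Type u) [CommRing A] [Algebra R A] (v : A ⊗[R] (Fin n → R)) :
    vec A (fun i => (stdB (R := R) A).repr v i) = v := (stdB (R := R) A).sum_repr v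

theorem QA_vec {A B : Type u} [CommRing A] [CommRing B] [Algebra R A] [Algebra R B] (φ : A →ₐ[R] B) (c : Fin n → A) :
    φ (QA Q A (vec A c)) = QA Q B (vec B (φ ∘ c)) := by
  rw [vec, vec, Quad.bcForm_sum, Quad.bcForm_sum]
  simp only [map_sum, map_mul, AlgHom.commutes, Function.comp_apply]

/-- The matrix of the reflection in a vector. -/
def rM (A : Type u) [CommRing A] [Algebra R A] (c : Fin n → A) (hc : IsUnit (QA Q A (vec A c))) : Matrix (Fin n) (Fin n) A :=
  LinearMap.toMatrix (stdB (R := R) A) (stdB (R := R) A) (refl (QA Q A) (vec A c) hc).toLinearMap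

theorem rM_apply (A : Type u) [CommRing A] [Algebra R A] (c : Fin n → A) (hc : IsUnit (QA Q A (vec A c))) (i j : Fin n) :
    rM Q A c hc i j = (if j = i then 1 else 0) -
      ((↑hc.unit⁻¹ : A) * ∑ a, ∑ b, c a * (Pi.single j 1 : Fin n → A) b * algebraMap R A (beta Q a b + beta Q b a)) * c i := by
  rw [rM, LinearMap.toMatrix_apply, LinearEquiv.coe_toLinearMap, refl_apply, map_sub, map_smul, Finsupp.sub_apply,
    Finsupp.smul_apply, repr_vec, Module.Basis.repr_self, Finsupp.single_apply, smul_eq_mul]
  have : polar (QA Q A) (vec A c) (stdB (R := R) A j) =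
      ∑ a, ∑ b, c a * (Pi.single j 1 : Fin n → A) b * algebraMap R A (beta Q a b + beta Q b a) := by
    rw [← Quad.polar_bcForm_sum]
    congr 1
    simp [Pi.single_apply, ite_smul]
  rw [this]

theorem rM_map {A B : Type u} [CommRing A] [CommRing B] [Algebra R A] [Algebra R B] (φ : A →ₐ[R] B) (c : Fin n → A)
    (hc : IsUnit (QA Q A (vec A c))) (d : Fin n → B) (hd : IsUnit (QA Q B (vec B d))) (h : φ ∘ c = d) :
    (rM Q A c hc).map φ = rM Q B d hd := by
  subst h
  have hinv : φ (↑hc.unit⁻¹ : A) = (↑hd.unit⁻¹ : B) := hd.mul_left_cancel (by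
    rw [IsUnit.mul_val_inv, ← QA_vec Q φ c, ← map_mul, IsUnit.mul_val_inv, map_one])
  ext i j
  rw [Matrix.map_apply, rM_apply, rM_apply, map_sub, map_mul, map_mul, hinv]
  congr 1
  · split_ifs <;> simp
  · simp only [map_sum, map_mul, AlgHom.commutes, Function.comp_apply]
    congr 2
    refine Finset.sum_congr rfl fun a _ => Finset.sum_congr rfl fun b _ => ?_
    rw [Pi.single_apply, Pi.single_apply, apply_ite φ, map_one, map_zero]

theorem ok_rM (A : Type u) [CommRing A] [Algebra R A] (c : Fin n → A) (hc : IsUnit (QA Q A (vec A c))) :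
    OK (betaM Q) false A (rM Q A c hc) ∧ (rM Q A c hc).det = -1 := by
  refine ⟨(Quad.mem_orth_iff_ok Q A _).1 ((Quad.mem_orth_iff Q A _).2 (refl_mem_O _ hc)), ?_⟩
  rw [rM, LinearMap.det_toMatrix, det_refl]

theorem ok_mul {β : Matrix (Fin n) (Fin n) R} {A : Type u} [CommRing A] [Algebra R A] {G H : Matrix (Fin n) (Fin n) A}
    (hG : OK β false A G) (hH : OK β false A H) : OK β false A (G * H) := by
  refine ⟨by rw [Matrix.det_mul]; exact hG.1.mul hH.1, ?_, fun h => absurd h (by decide)⟩
  rw [show (G * H)ᵀ * β.map (algebraMap R A) * (G * H) = Hᵀ * (Gᵀ * β.map (algebraMap R A) * G) * H by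
    simp [Matrix.transpose_mul, Matrix.mul_assoc], Quad.cf_conj_eq hG.2.1, hH.2.1]

/-- Products of an even number of reflections. -/
inductive EvenWord {A : Type u} [CommRing A] {M : Type u} [AddCommGroup M] [Module A M] (P : QuadraticForm A M) :
    (M ≃ₗ[A] M) → Prop
  | one : EvenWord P 1
  | step {g : M ≃ₗ[A] M} (v w : M) (hv : IsUnit (P v)) (hw : IsUnit (P w)) (h : EvenWord P g) :
      EvenWord P (g * refl P v hv * refl P w hw)

section Words

variable {A : Type u} [CommRing A] {M : Type u} [AddCommGroup M] [Module A M] {P : QuadraticForm A M}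

theorem refl_refl (v : M) (hv : IsUnit (P v)) : refl P v hv * refl P v hv = 1 := by
  refine LinearEquiv.ext fun x => ?_
  change refl P v hv (refl P v hv x) = x
  have hq := hv.val_inv_mul
  rw [refl_apply, refl_apply, sub_eq_add_neg x, polar_add_right, ← neg_smul, polar_smul_right, polar_self, nsmul_eq_mul,
    Nat.cast_ofNat, smul_eq_mul, sub_eq_add_neg, add_assoc, ← neg_smul, ← add_smul,
    add_eq_left]
  convert zero_smul A v using 2
  linear_combination (2 * (↑hv.unit⁻¹ : A) * polar P v x) * hq

theorem evenWord_or {g : M ≃ₗ[A] M} (hg : g ∈ reflGroup P) (v₀ : M) (h₀ : IsUnit (P v₀)) :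
    EvenWord P g ∨ EvenWord P (g * refl P v₀ h₀) := by
  have key : ∀ (g : M ≃ₗ[A] M) v hv, (EvenWord P g ∨ EvenWord P (g * refl P v₀ h₀)) →
      (EvenWord P (g * refl P v hv) ∨ EvenWord P (g * refl P v hv * refl P v₀ h₀)) := by
    rintro g v hv (h | h)
    · exact Or.inr (h.step v v₀ hv h₀)
    · left
      have := h.step v₀ v h₀ hv
      rwa [mul_assoc g, refl_refl, mul_one] at this
  induction hg using Subgroup.closure_induction_right with
  | one => exact Or.inl .one
  | mul_right x hx y hy ih =>
    obtain ⟨v, hv, rfl⟩ := hy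
    exact key x v hv ih
  | mul_inv_cancel x hx y hy ih =>
    obtain ⟨v, hv, rfl⟩ := hy
    rw [inv_eq_of_mul_eq_one_right (refl_refl v hv)]
    exact key x v hv ih

theorem EvenWord.mem_O {g : M ≃ₗ[A] M} (h : EvenWord P g) : g ∈ QuadGrp.O P := by
  induction h with
  | one => exact one_mem _
  | step v w hv hw _ ih => exact mul_mem (mul_mem ih (refl_mem_O v hv)) (refl_mem_O w hw)

theorem EvenWord.det [Module.Free A M] [Module.Finite A M] {g : M ≃ₗ[A] M} (h : EvenWord P g) :
    LinearMap.det g.toLinearMap = 1 := by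
  induction h with
  | one => exact LinearMap.det_id
  | step v w hv hw _ ih =>
    rw [LinearEquiv.coe_toLinearMap_mul, map_mul, LinearEquiv.coe_toLinearMap_mul, map_mul, ih, det_refl, det_refl]
    ring

end Words

theorem isUnit_QA_repr {A : Type u} [CommRing A] [Algebra R A] {v : A ⊗[R] (Fin n → R)} (hv : IsUnit (QA Q A v)) :
    IsUnit (QA Q A (vec A fun i => (stdB (R := R) A).repr v i)) := by
  rwa [vec_repr]

theorem toMatrix_refl {A : Type u} [CommRing A] [Algebra R A] (v : A ⊗[R] (Fin n → R)) (hv : IsUnit (QA Q A v)) :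
    LinearMap.toMatrix (stdB (R := R) A) (stdB (R := R) A) (refl (QA Q A) v hv).toLinearMap =
      rM Q A (fun i => (stdB (R := R) A).repr v i) (isUnit_QA_repr Q hv) := by
  unfold rM
  congr 2
  simp only [vec_repr]

theorem toMatrix_equiv_mul {A : Type u} [CommRing A] [Algebra R A]
    (f g : (A ⊗[R] (Fin n → R)) ≃ₗ[A] (A ⊗[R] (Fin n → R))) :
    LinearMap.toMatrix (stdB (R := R) A) (stdB (R := R) A) (f * g).toLinearMap =
      LinearMap.toMatrix (stdB (R := R) A) (stdB (R := R) A) f.toLinearMap *
        LinearMap.toMatrix (stdB (R := R) A) (stdB (R := R) A) g.toLinearMap := by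
  rw [LinearEquiv.coe_toLinearMap_mul, LinearMap.toMatrix_mul]

/-- The geometric fibre of a scheme of isometries, all of whose points are even words, is connected. -/
theorem connected_of_words (s : Bool) (k : Type u) [Field k] [IsAlgClosed k] [Algebra R k] (S : Type u) [CommRing S]
    [Algebra R S] [Algebra.FiniteType R S] (π : Coord (betaM Q) s →ₐ[R] S)
    (hinj : ∀ χ χ' : S →ₐ[R] k, χ.comp π = χ'.comp π → χ = χ')
    (hfac : ∀ (D : Type u) [CommRing D] [IsDomain D] [Algebra R D] (θ : Coord (betaM Q) s →ₐ[R] D) (ev : D →ₐ[R] k)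
      (χ : S →ₐ[R] k), ev.comp θ = χ.comp π → ∃ θ' : S →ₐ[R] D, θ'.comp π = θ)
    (hone : ∃ χ : S →ₐ[R] k, (univMat (betaM Q) s).map (χ.comp π) = 1)
    (hpts : ∀ g : (k ⊗[R] (Fin n → R)) ≃ₗ[k] (k ⊗[R] (Fin n → R)),
      (∃ χ : S →ₐ[R] k, (univMat (betaM Q) s).map (χ.comp π) =
        LinearMap.toMatrix (stdB (R := R) k) (stdB (R := R) k) g.toLinearMap) → EvenWord (QA Q k) g) :
    ConnectedSpace (PrimeSpectrum (k ⊗[R] S)) := by
  classical
  set b := stdB (R := R) (n := n) k
  obtain ⟨χ₁, hχ₁⟩ := hone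
  let up : (S →ₐ[R] k) → (k ⊗[R] S →ₐ[k] k) := fun χ =>
    Algebra.TensorProduct.lift (Algebra.ofId k k) χ fun _ _ => Commute.all _ _
  refine Groth.Misc12.Conn.connectedSpace_of_idem k (k ⊗[R] S) (up χ₁) ?_
  have main : ∀ g : (k ⊗[R] (Fin n → R)) ≃ₗ[k] (k ⊗[R] (Fin n → R)), EvenWord (QA Q k) g →
      ∃ χ : S →ₐ[R] k, (univMat (betaM Q) s).map (χ.comp π) = LinearMap.toMatrix b b g.toLinearMap ∧
        ∀ e : k ⊗[R] S, IsIdempotentElem e → up χ e = up χ₁ e := by
    intro g hg
    induction hg with
    | one => exact ⟨χ₁, by rw [hχ₁]; exact (LinearMap.toMatrix_one b).symm, fun e _ => rfl⟩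
    | @step g v w hv hw hg ih =>
      obtain ⟨χ, hχ, hval⟩ := ih
      set cv : Fin n → k := fun i => b.repr v i
      set cw : Fin n → k := fun i => b.repr w i
      let Pk := MvPolynomial (Fin n) k
      set q : Pk := QA Q Pk (vec Pk MvPolynomial.X)
      have hqe : ∀ c : Fin n → k, MvPolynomial.aeval c q = QA Q k (vec k c) := fun c => by
        rw [show MvPolynomial.aeval c q = ((MvPolynomial.aeval c : Pk →ₐ[k] k).restrictScalars R) q from rfl, QA_vec]
        congr 1
        simp [Function.comp_def]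
      have hq0 : q ≠ 0 := fun h0 => by
        have := hqe cw
        rw [h0, map_zero] at this
        exact (isUnit_QA_repr Q hw).ne_zero this.symm
      let D := Localization.Away q
      haveI : IsDomain D := IsLocalization.isDomain_localization (powers_le_nonZeroDivisors_of_noZeroDivisors hq0)
      let loc : Pk →ₐ[R] D := IsScalarTower.toAlgHom R Pk D
      let cst : k →ₐ[R] D := IsScalarTower.toAlgHom R k D
      let V : Fin n → D := fun i => loc (MvPolynomial.X i)
      have hV : IsUnit (QA Q D (vec D V)) := by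
        rw [show V = loc ∘ MvPolynomial.X from rfl, ← QA_vec]
        exact IsLocalization.Away.algebraMap_isUnit q
      have hcw : IsUnit (QA Q D (vec D (cst ∘ cw))) := by
        rw [← QA_vec]; exact (isUnit_QA_repr Q hw).map cst
      set G₀ := LinearMap.toMatrix b b g.toLinearMap
      set GD := G₀.map cst * rM Q D V hV * rM Q D (cst ∘ cw) hcw
      have hG₀ : OK (betaM Q) false k G₀ :=
        (Quad.mem_orth_iff_ok Q k g).1 ((Quad.mem_orth_iff Q k g).2 hg.mem_O)
      have hG₀d : G₀.det = 1 := by rw [LinearMap.det_toMatrix]; exact hg.det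
      have hGD : OK (betaM Q) s D GD := by
        have h := ok_mul (ok_mul (hG₀.map _ _ cst) (ok_rM Q D V hV).1) (ok_rM Q D (cst ∘ cw) hcw).1
        refine ⟨h.1, h.2.1, fun _ => ?_⟩
        rw [Matrix.det_mul, Matrix.det_mul, (ok_rM Q D V hV).2, (ok_rM Q D (cst ∘ cw) hcw).2,
          show (G₀.map cst).det = cst G₀.det from (cst.toRingHom.map_det G₀).symm, hG₀d, map_one]
        ring
      obtain ⟨θ, hθ⟩ := Quad.exists_hom (betaM Q) s hGD
      -- the two specialisations
      have hu : ∀ c : Fin n → k, IsUnit (QA Q k (vec k c)) → IsUnit (MvPolynomial.aeval c q) := fun c h => by rwa [hqe]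
      let ev : ∀ c : Fin n → k, IsUnit (QA Q k (vec k c)) → (D →ₐ[k] k) := fun c h =>
        IsLocalization.Away.liftAlgHom q (f := MvPolynomial.aeval c) (hu c h)
      have hev : ∀ c h x, ev c h (loc x) = MvPolynomial.aeval c x := fun c h x =>
        IsLocalization.Away.lift_eq q (hu c h) x
      have hmap : ∀ c (h : IsUnit (QA Q k (vec k c))),
          (univMat (betaM Q) s).map (((ev c h).restrictScalars R).comp θ) = G₀ * rM Q k c h * rM Q k cw (isUnit_QA_repr Q hw) := by
        intro c h
        set φ := (ev c h).restrictScalars R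
        rw [show (univMat (betaM Q) s).map (φ.comp θ) = ((univMat (betaM Q) s).map θ).map φ from rfl, hθ,
          Matrix.map_mul, Matrix.map_mul, rM_map Q φ V hV c h, rM_map Q φ _ hcw cw (isUnit_QA_repr Q hw)]
        · congr 2
          ext i j
          exact (ev c h).commutes _
        · funext i
          exact (ev c h).commutes _
        · funext i
          exact (hev c h _).trans (MvPolynomial.aeval_X _ _)
      have hcwk := isUnit_QA_repr Q hw
      have hb : ((ev cw hcwk).restrictScalars R).comp θ = χ.comp π := Quad.coord_ext _ _ (by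
        rw [hmap cw hcwk, hχ, mul_assoc, show rM Q k cw hcwk * rM Q k cw (isUnit_QA_repr Q hw) = 1 by
          rw [← toMatrix_refl Q w hw, ← toMatrix_equiv_mul, refl_refl]; exact LinearMap.toMatrix_one b, mul_one])
      obtain ⟨θ', hθ'⟩ := hfac D θ _ χ hb
      let χ' := ((ev cv (isUnit_QA_repr Q hv)).restrictScalars R).comp θ'
      refine ⟨χ', ?_, fun e he => ?_⟩
      · rw [AlgHom.comp_assoc, hθ', hmap cv (isUnit_QA_repr Q hv), toMatrix_equiv_mul, toMatrix_equiv_mul, toMatrix_refl Q v hv, toMatrix_refl Q w hw]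
      · let Θ : k ⊗[R] S →ₐ[k] D := Algebra.TensorProduct.lift (Algebra.ofId k D) θ' fun _ _ => Commute.all _ _
        have hup : ∀ (c : Fin n → k) h, (ev c h).comp Θ = up (((ev c h).restrictScalars R).comp θ') := fun c h => by
          refine Algebra.TensorProduct.ext (AlgHom.ext fun x => ?_) (AlgHom.ext fun x => ?_)
          · simp [Θ, up]
          · simp [Θ, up]
        have h1 : ((ev cw hcwk).restrictScalars R).comp θ' = χ := hinj _ _ (by rw [AlgHom.comp_assoc, hθ', hb])
        rw [← hval e he, ← h1, ← hup cv (isUnit_QA_repr Q hv), ← hup cw hcwk, AlgHom.comp_apply, AlgHom.comp_apply]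
        rcases IsIdempotentElem.iff_eq_zero_or_one.1 (he.map Θ.toRingHom) with h | h <;>
          rw [show Θ e = _ from h] <;> simp
  intro χ e he
  set σ := (χ.restrictScalars R).comp Algebra.TensorProduct.includeRight
  have hok : OK (betaM Q) false k ((univMat (betaM Q) s).map (σ.comp π)) :=
    ⟨((Quad.univMat_ok (betaM Q) s).map _ _ _).1, ((Quad.univMat_ok (betaM Q) s).map _ _ _).2.1,
      fun h => absurd h (by decide)⟩
  let g := Matrix.toLinearEquiv b _ hok.1
  have hgm : LinearMap.toMatrix b b g.toLinearMap = (univMat (betaM Q) s).map (σ.comp π) := LinearMap.toMatrix_toLin _ _ _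
  obtain ⟨χ', hχ', hval⟩ := main g (hpts g ⟨σ, hgm.symm⟩)
  have h2 : χ' = σ := hinj _ _ (Quad.coord_ext _ _ (hχ'.trans hgm))
  have h3 : up σ = χ := Algebra.TensorProduct.ext (Subsingleton.elim _ _) (AlgHom.ext fun x => by simp [up, σ])
  rw [← hval e he, h2, h3]

end Groth.Misc12.Cliff.Conn
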